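import Groth.Agent.FinFibImage.BaseChange
import Groth.Agent.GammaProd.QAGroup
import Mathlib.LinearAlgebra.TensorProduct.Basis

/-!
Global functions on the product of a quasi-compact scheme and an affine scheme over a field.
-/

set_option autoImplicit false
set_option backward.isDefEq.respectTransparency false
set_option linter.style.haveILetI false
set_option maxHeartbeats 1000000

open CategoryTheory CategoryTheory.Limits AlgebraicGeometry TensorProduct Opposite

universe u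

namespace Groth.Agent.HomAff

/-- tensoring with a free module preserves joint injectivity -/
theorem eq_zero_of_forall_lTensor {k : Type u} [CommRing k] {B : Type u} [AddCommGroup B] [Module k B]
    [Module.Free k B] {M : Type u} [AddCommGroup M] [Module k M] {ι : Type*} {N : ι → Type u}
    [∀ i, AddCommGroup (N i)] [∀ i, Module k (N i)] (r : ∀ i, M →ₗ[k] N i)
    (hr : ∀ m, (∀ i, r i m = 0) → m = 0) (x : B ⊗[k] M) (hx : ∀ i, (r i).lTensor B x = 0) : x = 0 := by
  classical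
  let b := Module.Free.chooseBasis k B
  have key : ∀ i j (y : B ⊗[k] M), (TensorProduct.equivFinsuppOfBasisLeft b ((r i).lTensor B y)) j =
      r i (TensorProduct.equivFinsuppOfBasisLeft b y j) := fun i j y => by
    induction y with
    | zero => simp
    | tmul a m => simp
    | add y z hy hz => simp [hy, hz]
  apply (TensorProduct.equivFinsuppOfBasisLeft b).injective
  rw [map_zero]
  refine Finsupp.ext fun j => hr _ fun i => ?_
  rw [← key i j x, hx i]
  simp

variable {K : Type u} [Field K] {P X Y : Scheme.{u}} {p : P ⟶ X} {q : P ⟶ Y}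
  {g : X ⟶ Spec (CommRingCat.of K)} {h : Y ⟶ Spec (CommRingCat.of K)}

/-- injectivity on an arbitrary open -/
theorem mono_pushoutSection [IsAffine Y] (H : IsPullback p q g h) (V : X.Opens)
    (hV : V ≤ g ⁻¹ᵁ (⊤ : (Spec (CommRingCat.of K)).Opens)) :
    Mono (pushoutSection H (US := ⊤) (UT := ⊤) (UX := V) (UY := p ⁻¹ᵁ V ⊓ q ⁻¹ᵁ ⊤) le_top hV rfl) := by
  classical
  have hF : IsField Γ(Spec (CommRingCat.of K), ⊤) := MulEquiv.isField (Field.toIsField K)
    (Scheme.ΓSpecIso (CommRingCat.of K)).commRingCatIsoToRingEquiv.toMulEquiv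
  letI := hF.toField
  let I := {W : X.Opens // IsAffineOpen W ∧ W ≤ V}
  algebraize [(g.appLE ⊤ V hV).hom, (h.appLE ⊤ ⊤ le_top).hom]
  let (W : I) := (g.appLE ⊤ W.1 (W.2.2.trans hV)).hom.toAlgebra
  let r : ∀ W : I, Γ(X, V) →ₐ[Γ(Spec (CommRingCat.of K), ⊤)] Γ(X, W.1) := fun W =>
    ⟨(X.presheaf.map (homOfLE W.2.2).op).hom, fun c => by
      dsimp [RingHom.algebraMap_toAlgebra]
      simp only [← CommRingCat.comp_apply, Scheme.Hom.appLE_map]⟩
  have hr : ∀ m : Γ(X, V), (∀ W : I, r W m = 0) → m = 0 := fun m hm => by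
    refine X.IsSheaf.section_ext fun x hx => ?_
    obtain ⟨W, hW, hxW, hWV⟩ := exists_isAffineOpen_mem_and_subset (X := X) (x := x) (U := V) hx
    exact ⟨W, hWV, hxW, by rw [map_zero]; exact hm ⟨W, hW, hWV⟩⟩
  have PY := CommRingCat.isPushout_tensorProduct Γ(Spec (CommRingCat.of K), ⊤) Γ(Y, ⊤) Γ(X, V)
  let e : pushout (g.appLE ⊤ V hV) (h.appLE ⊤ ⊤ le_top) ≅
      .of (Γ(Y, ⊤) ⊗[Γ(Spec (CommRingCat.of K), ⊤)] Γ(X, V)) := PY.flip.isoPushout.symm
  suffices Mono (e.inv ≫ pushoutSection H (US := ⊤) (UT := ⊤) (UX := V) (UY := p ⁻¹ᵁ V ⊓ q ⁻¹ᵁ ⊤) le_top hV rfl) by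
    have := mono_comp e.hom (e.inv ≫ pushoutSection H (US := ⊤) (UT := ⊤) (UX := V) (UY := p ⁻¹ᵁ V ⊓ q ⁻¹ᵁ ⊤) le_top hV rfl)
    rwa [Iso.hom_inv_id_assoc] at this
  refine ConcreteCategory.mono_of_injective _ ((injective_iff_map_eq_zero _).2 ?_)
  intro x hx
  refine eq_zero_of_forall_lTensor (fun W : I => (r W).toLinearMap) hr x fun W => ?_
  have PW := CommRingCat.isPushout_tensorProduct Γ(Spec (CommRingCat.of K), ⊤) Γ(Y, ⊤) Γ(X, W.1)
  let eW := PW.flip.isoPushout.hom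
  haveI hWi := isIso_pushoutSection_of_isAffineOpen H (UY := p ⁻¹ᵁ W.1 ⊓ q ⁻¹ᵁ ⊤)
    (show (⊤ : Y.Opens) ≤ h ⁻¹ᵁ ⊤ from le_top) (W.2.2.trans hV) rfl (isAffineOpen_top _) (isAffineOpen_top _) W.2.1
  let θ := eW ≫ pushoutSection H (show (⊤ : Y.Opens) ≤ h ⁻¹ᵁ ⊤ from le_top) (W.2.2.trans hV)
    (UY := p ⁻¹ᵁ W.1 ⊓ q ⁻¹ᵁ ⊤) rfl
  haveI : IsIso θ := inferInstanceAs (IsIso (eW ≫ _))
  let μ : CommRingCat.of (Γ(Y, ⊤) ⊗[Γ(Spec (CommRingCat.of K), ⊤)] Γ(X, V)) ⟶
      CommRingCat.of (Γ(Y, ⊤) ⊗[Γ(Spec (CommRingCat.of K), ⊤)] Γ(X, W.1)) :=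
    CommRingCat.ofHom (Algebra.TensorProduct.map (AlgHom.id Γ(Spec (CommRingCat.of K), ⊤) Γ(Y, ⊤)) (r W)).toRingHom
  have hcomm : μ ≫ θ = (e.inv ≫ pushoutSection H (US := ⊤) (UT := ⊤) (UX := V) (UY := p ⁻¹ᵁ V ⊓ q ⁻¹ᵁ ⊤) le_top hV rfl) ≫
      P.presheaf.map (homOfLE (show p ⁻¹ᵁ W.1 ⊓ q ⁻¹ᵁ ⊤ ≤ p ⁻¹ᵁ V ⊓ q ⁻¹ᵁ ⊤ from
        inf_le_inf_right _ (Scheme.Hom.preimage_mono _ W.2.2))).op := by
    apply PY.hom_ext
    · have h1 : CommRingCat.ofHom Algebra.TensorProduct.includeLeftRingHom ≫ μ =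
          CommRingCat.ofHom (Algebra.TensorProduct.includeLeftRingHom (R := Γ(Spec (CommRingCat.of K), ⊤))
            (A := Γ(Y, ⊤)) (B := Γ(X, W.1))) := by
        ext a; simp [μ]
      rw [reassoc_of% h1]
      simp only [θ, eW, e, Iso.symm_inv, Category.assoc]
      erw [PW.flip.inr_isoPushout_hom_assoc, PY.flip.inr_isoPushout_hom_assoc, pushout.inr_desc,
        pushout.inr_desc_assoc, Scheme.Hom.appLE_map]
    · have h1 : CommRingCat.ofHom Algebra.TensorProduct.includeRight.toRingHom ≫ μ =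
          CommRingCat.ofHom (r W).toRingHom ≫ CommRingCat.ofHom (Algebra.TensorProduct.includeRight (R := Γ(Spec (CommRingCat.of K), ⊤))
            (A := Γ(Y, ⊤)) (B := Γ(X, W.1))).toRingHom := by
        ext a; simp [μ]
      rw [reassoc_of% h1]
      simp only [θ, eW, e, Iso.symm_inv, Category.assoc]
      erw [PW.flip.inl_isoPushout_hom_assoc, PY.flip.inl_isoPushout_hom_assoc, pushout.inl_desc,
        pushout.inl_desc_assoc, Scheme.Hom.appLE_map]
      exact Scheme.Hom.map_appLE _ _ _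
  have : μ.hom x = 0 := (ConcreteCategory.bijective_of_isIso θ).1 (by
    rw [← ConcreteCategory.comp_apply, hcomm, ConcreteCategory.comp_apply, hx]
    exact (map_zero _).trans (map_zero _).symm)
  exact this

/-- global functions of the product -/
theorem isPushout_appTop [IsAffine Y] [CompactSpace X] (H : IsPullback p q g h) :
    IsPushout g.appTop h.appTop p.appTop q.appTop := by
  obtain ⟨I, hI, e⟩ := isCompact_iff_finite_and_eq_biUnion_affineOpens.mp
    (show IsCompact ((⊤ : X.Opens) : Set X) from isCompact_univ)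
  have := hI.to_subtype
  have h' : (h.appLE ⊤ ⊤ le_top).hom.Flat := by
    simpa [Scheme.Hom.appLE, Scheme.Hom.appTop] using! Groth.Agent.GammaProd.flat_appTop_field h
  have hall : IsIso (pushoutSection H (US := ⊤) (UT := ⊤) (UX := ⊤) (UY := ⊤) le_top le_top (by simp)) := by
    refine isIso_pushoutSection_of_iSup_eq H _ _ _ (fun i : I => (i : X.Opens)) ?_
      (fun i => ?_) (fun i j => ?_) h'
    · rw [iSup_subtype]; exact e.symm
    · exact isIso_pushoutSection_of_isAffineOpen _ _ _ _ (isAffineOpen_top _) (isAffineOpen_top _) i.1.2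
    · exact mono_pushoutSection H _ _
  have := (isIso_pushoutSection_iff H (US := ⊤) (UT := ⊤) (UX := ⊤) (UY := ⊤) le_top le_top
    (by simp)).mp hall
  simpa [Scheme.Hom.appLE, Scheme.Hom.appTop] using! this

end Groth.Agent.HomAff
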