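import Groth.Agent.HomAff.Gamma
import Groth.Agent.HomRep.WeilRing
import Mathlib.CategoryTheory.Monoidal.Cartesian.Over
import Mathlib.AlgebraicGeometry.GammaSpecAdjunction

/-!
The scheme of morphisms from a quasi-compact scheme with finite global functions to an affine scheme.
-/

set_option autoImplicit false
set_option backward.isDefEq.respectTransparency false
set_option linter.style.haveILetI false
set_option maxHeartbeats 1000000

open CategoryTheory CategoryTheory.Limits MonoidalCategory CartesianMonoidalCategory AlgebraicGeometry Opposite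
open scoped TensorProduct

universe u

noncomputable section

namespace Groth.Agent.HomAff

variable {k : Type u} [Field k]

/-- the structure map on global functions -/
def str (T : Over (Spec (CommRingCat.of k))) : k →+* Γ(T.left, ⊤) :=
  T.hom.appTop.hom.comp (Scheme.ΓSpecIso (CommRingCat.of k)).inv.hom

local instance algΓ (T : Over (Spec (CommRingCat.of k))) : Algebra k Γ(T.left, ⊤) := (str T).toAlgebra

theorem algebraMap_eq (T : Over (Spec (CommRingCat.of k))) : algebraMap k Γ(T.left, ⊤) = str T := rfl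

/-- functions pulled back -/
def pb {S T : Over (Spec (CommRingCat.of k))} (f : S ⟶ T) : Γ(T.left, ⊤) →ₐ[k] Γ(S.left, ⊤) :=
  ⟨f.left.appTop.hom, fun c => by
    show (T.hom.appTop ≫ f.left.appTop) ((Scheme.ΓSpecIso (CommRingCat.of k)).inv c) = S.hom.appTop _
    rw [← Scheme.Hom.comp_appTop, Over.w]⟩

theorem pb_apply {S T : Over (Spec (CommRingCat.of k))} (f : S ⟶ T) (x : Γ(T.left, ⊤)) : pb f x = f.left.appTop x := rfl

theorem pb_comp {R S T : Over (Spec (CommRingCat.of k))} (f : R ⟶ S) (g : S ⟶ T) : pb (f ≫ g) = (pb f).comp (pb g) :=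
  AlgHom.ext fun x => by simp [pb_apply, Scheme.Hom.comp_appTop]

/-- maps to an affine object are determined by functions -/
theorem hom_ext_affine {S Z : Over (Spec (CommRingCat.of k))} [IsAffine Z.left] {f g : S ⟶ Z} (h : pb f = pb g) : f = g :=
  Over.OverMorphism.ext (ext_of_isAffine (CommRingCat.hom_ext (congrArg AlgHom.toRingHom h)))

/-- maps to an affine object from functions -/
theorem exists_hom_affine (S Z : Over (Spec (CommRingCat.of k))) [IsAffine Z.left] (φ : Γ(Z.left, ⊤) →ₐ[k] Γ(S.left, ⊤)) :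
    ∃ f : S ⟶ Z, pb f = φ := by
  let f₀ : S.left ⟶ Z.left := S.left.toSpecΓ ≫ Spec.map (CommRingCat.ofHom φ.toRingHom) ≫ Z.left.isoSpec.inv
  have hf : f₀.appTop = CommRingCat.ofHom φ.toRingHom := by
    simp [f₀, Scheme.isoSpec, Scheme.Hom.comp_appTop]
    exact congrArg (· ≫ CommRingCat.ofHom φ.toRingHom) Z.left.toSpecΓ_appTop.symm
  have hw : f₀ ≫ Z.hom = S.hom := by
    apply ext_of_isAffine
    rw [Scheme.Hom.comp_appTop, hf, ← cancel_epi (Scheme.ΓSpecIso (CommRingCat.of k)).inv]
    exact CommRingCat.hom_ext (RingHom.ext fun c => φ.commutes c)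
  exact ⟨Over.homMk f₀ hw, AlgHom.ext fun x => congr($hf x)⟩

variable (X : Over (Spec (CommRingCat.of k))) [CompactSpace X.left]

/-- functions of the product -/
def prodΓ (T : Over (Spec (CommRingCat.of k))) : Γ(T.left, ⊤) ⊗[k] Γ(X.left, ⊤) →ₐ[k] Γ((X ⊗ T).left, ⊤) :=
  Algebra.TensorProduct.lift (pb (snd X T)) (pb (fst X T)) fun _ _ => Commute.all _ _

theorem prodΓ_tmul (T : Over (Spec (CommRingCat.of k))) (t : Γ(T.left, ⊤)) (a : Γ(X.left, ⊤)) :
    prodΓ X T (t ⊗ₜ a) = pb (snd X T) t * pb (fst X T) a := Algebra.TensorProduct.lift_tmul ..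

theorem prodΓ_bijective (T : Over (Spec (CommRingCat.of k))) [IsAffine T.left] : Function.Bijective (prodΓ X T) := by
  have HP := isPushout_appTop (IsPullback.of_hasPullback X.hom T.hom)
  have HP' : IsPushout (CommRingCat.ofHom (algebraMap k Γ(T.left, ⊤))) (CommRingCat.ofHom (algebraMap k Γ(X.left, ⊤)))
      (snd X T).left.appTop (fst X T).left.appTop :=
    HP.flip.of_iso (Scheme.ΓSpecIso (CommRingCat.of k)) (Iso.refl _) (Iso.refl _) (Iso.refl _)
      (by rw [Iso.refl_hom, Category.comp_id, ← Iso.inv_comp_eq]; rfl)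
      (by rw [Iso.refl_hom, Category.comp_id, ← Iso.inv_comp_eq]; rfl)
      (by rw [Iso.refl_hom, Iso.refl_hom, Category.comp_id, Category.id_comp]; rfl)
      (by rw [Iso.refl_hom, Iso.refl_hom, Category.comp_id, Category.id_comp]; rfl)
  have PY := CommRingCat.isPushout_tensorProduct k Γ(T.left, ⊤) Γ(X.left, ⊤)
  let d := PY.desc (snd X T).left.appTop (fst X T).left.appTop HP'.w
  haveI : IsIso d := FinFibImage.isIso_desc_of_isPushout PY _ _ HP'.w HP'
  have hd : d = CommRingCat.ofHom (prodΓ X T).toRingHom := by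
    refine PY.hom_ext ?_ ?_
    · rw [PY.inl_desc]
      ext t
      show pb (snd X T) t = prodΓ X T (t ⊗ₜ 1)
      rw [prodΓ_tmul, map_one, mul_one]
    · rw [PY.inr_desc]
      ext a
      show pb (fst X T) a = prodΓ X T (1 ⊗ₜ a)
      rw [prodΓ_tmul, map_one, one_mul]
  have := ConcreteCategory.bijective_of_isIso d
  rw [hd] at this
  exact this

theorem prodΓ_natural {S T : Over (Spec (CommRingCat.of k))} (g : S ⟶ T) :
    (pb (X ◁ g)).comp (prodΓ X T) = (prodΓ X S).comp (Algebra.TensorProduct.map (pb g) (AlgHom.id k _)) := by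
  refine Algebra.TensorProduct.ext ?_ ?_
  · refine AlgHom.ext fun t => ?_
    show pb (X ◁ g) (prodΓ X T (t ⊗ₜ 1)) = prodΓ X S (Algebra.TensorProduct.map (pb g) (AlgHom.id k _) (t ⊗ₜ 1))
    rw [Algebra.TensorProduct.map_tmul, AlgHom.id_apply, prodΓ_tmul, prodΓ_tmul, map_one, map_one, mul_one, mul_one,
      ← AlgHom.comp_apply, ← AlgHom.comp_apply, ← pb_comp, ← pb_comp, whiskerLeft_snd]
  · refine AlgHom.ext fun a => ?_
    show pb (X ◁ g) (prodΓ X T (1 ⊗ₜ a)) = prodΓ X S (Algebra.TensorProduct.map (pb g) (AlgHom.id k _) (1 ⊗ₜ a))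
    rw [Algebra.TensorProduct.map_tmul, AlgHom.id_apply, prodΓ_tmul, prodΓ_tmul, map_one, map_one, one_mul, map_one,
      one_mul, ← AlgHom.comp_apply, ← pb_comp, whiskerLeft_fst]

/-- The scheme of morphisms. -/
theorem exists_rep [Module.Finite k Γ(X.left, ⊤)] (Z : Over (Spec (CommRingCat.of k))) [IsAffine Z.left] :
    ∃ (M : Over (Spec (CommRingCat.of k))) (_ : IsAffine M.left) (ev : X ⊗ M ⟶ Z),
      (∀ (S : Over (Spec (CommRingCat.of k))) (f : X ⊗ S ⟶ Z), ∃! g : S ⟶ M, (X ◁ g) ≫ ev = f) ∧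
      (LocallyOfFiniteType Z.hom → LocallyOfFiniteType M.hom) := by
  obtain ⟨U, _, _, F, hF, hFT, -⟩ := Groth.Agent.HomRep.exists_weilRestriction k Γ(X.left, ⊤) Γ(Z.left, ⊤)
  let M : Over (Spec (CommRingCat.of k)) := Over.mk (Spec.map (CommRingCat.ofHom (algebraMap k U)))
  haveI : IsAffine M.left := inferInstanceAs (IsAffine (Spec _))
  let j : U ≃ₐ[k] Γ(M.left, ⊤) :=
    AlgEquiv.ofRingEquiv (f := (Scheme.ΓSpecIso (CommRingCat.of U)).symm.commRingCatIsoToRingEquiv) fun c =>
      congr($(Scheme.ΓSpecIso_inv_naturality (CommRingCat.ofHom (algebraMap k U))) c)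
  obtain ⟨ev, hev⟩ := exists_hom_affine (X ⊗ M) Z
    ((prodΓ X M).comp ((Algebra.TensorProduct.map j.toAlgHom (AlgHom.id k _)).comp F))
  have key : ∀ (S : Over (Spec (CommRingCat.of k))) (g : S ⟶ M), pb ((X ◁ g) ≫ ev) =
      (prodΓ X S).comp ((Algebra.TensorProduct.map ((pb g).comp j.toAlgHom) (AlgHom.id k _)).comp F) := by
    intro S g
    rw [pb_comp, hev, ← AlgHom.comp_assoc, prodΓ_natural, AlgHom.comp_assoc,
      ← AlgHom.comp_assoc _ (Algebra.TensorProduct.map j.toAlgHom (AlgHom.id k _)) F,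
      ← Algebra.TensorProduct.map_comp, AlgHom.comp_id]
  have aff : ∀ (S : Over (Spec (CommRingCat.of k))), IsAffine S.left → ∀ f : X ⊗ S ⟶ Z, ∃! g : S ⟶ M, (X ◁ g) ≫ ev = f := by
    intro S hS f
    let eS := AlgEquiv.ofBijective (prodΓ X S) (prodΓ_bijective X S)
    let φ : Γ(Z.left, ⊤) →ₐ[k] Γ(S.left, ⊤) ⊗[k] Γ(X.left, ⊤) := eS.symm.toAlgHom.comp (pb f)
    have hφ : (prodΓ X S).comp φ = pb f := AlgHom.ext fun b => eS.apply_symm_apply _
    obtain ⟨ψ, hψ, hψu⟩ := hF Γ(S.left, ⊤) φ
    obtain ⟨g, hg⟩ := exists_hom_affine S M (ψ.comp j.symm.toAlgHom)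
    have hgj : (pb g).comp j.toAlgHom = ψ := by rw [hg]; ext; simp
    refine ⟨g, hom_ext_affine ?_, fun g' hg' => hom_ext_affine ?_⟩
    · rw [key, hgj, hψ, hφ]
    · have h1 : (pb g').comp j.toAlgHom = ψ := hψu _ (AlgHom.ext fun b => (prodΓ_bijective X S).1 (by
        have := AlgHom.congr_fun ((key S g').symm.trans (congrArg pb hg')) b
        exact this.trans (AlgHom.congr_fun hφ b).symm))
      rw [hg, ← h1]
      ext; simp
  refine ⟨M, inferInstance, ev, fun S f => ?_, fun hZ => ?_⟩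
  · let 𝒰 := S.left.affineCover
    let Sj (i : 𝒰.I₀) : Over (Spec (CommRingCat.of k)) := Over.mk (𝒰.f i ≫ S.hom)
    let s (i : 𝒰.I₀) : Sj i ⟶ S := Over.homMk (𝒰.f i) rfl
    haveI : ∀ i, IsAffine (Sj i).left := fun i => inferInstanceAs (IsAffine (Spec _))
    choose g hg hgu using fun i => aff (Sj i) inferInstance ((X ◁ s i) ≫ f)
    have compat : ∀ i l, pullback.fst (𝒰.f i) (𝒰.f l) ≫ (g i).left = pullback.snd (𝒰.f i) (𝒰.f l) ≫ (g l).left := by
      intro i l
      refine Scheme.Cover.hom_ext (pullback (𝒰.f i) (𝒰.f l)).affineCover _ _ fun m => ?_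
      let a := (pullback (𝒰.f i) (𝒰.f l)).affineCover.f m
      let W : Over (Spec (CommRingCat.of k)) := Over.mk (a ≫ pullback.fst (𝒰.f i) (𝒰.f l) ≫ 𝒰.f i ≫ S.hom)
      let wi : W ⟶ Sj i := Over.homMk (a ≫ pullback.fst _ _) (Category.assoc _ _ _)
      let wl : W ⟶ Sj l := Over.homMk (a ≫ pullback.snd _ _) (by
        show (a ≫ pullback.snd _ _) ≫ 𝒰.f l ≫ S.hom = a ≫ pullback.fst _ _ ≫ 𝒰.f i ≫ S.hom
        rw [Category.assoc, ← pullback.condition_assoc])
      haveI : IsAffine W.left := inferInstanceAs (IsAffine (Spec _))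
      have hw : wi ≫ s i = wl ≫ s l := Over.OverMorphism.ext (by
        show (a ≫ pullback.fst _ _) ≫ 𝒰.f i = (a ≫ pullback.snd _ _) ≫ 𝒰.f l
        rw [Category.assoc, Category.assoc, pullback.condition])
      have := (aff W inferInstance ((X ◁ (wi ≫ s i)) ≫ f)).unique (y₁ := wi ≫ g i) (y₂ := wl ≫ g l)
        (by rw [MonoidalCategory.whiskerLeft_comp, Category.assoc, hg, ← MonoidalCategory.whiskerLeft_comp_assoc])
        (by rw [MonoidalCategory.whiskerLeft_comp, Category.assoc, hg, ← MonoidalCategory.whiskerLeft_comp_assoc, hw])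
      have e := congrArg CommaMorphism.left this
      simpa [wi, wl, Category.assoc] using e
    let g₀ := Scheme.Cover.glueMorphisms 𝒰 (fun i => (g i).left) compat
    let G : S ⟶ M := Over.homMk g₀ (by
      refine Scheme.Cover.hom_ext 𝒰 _ _ fun i => ?_
      rw [← Category.assoc, Scheme.Cover.ι_glueMorphisms]
      exact Over.w (g i))
    have hG : ∀ i, s i ≫ G = g i := fun i => Over.OverMorphism.ext (Scheme.Cover.ι_glueMorphisms 𝒰 _ compat i)
    refine ⟨G, ?_, fun G' hG' => ?_⟩
    · apply Over.OverMorphism.ext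
      refine Scheme.Cover.hom_ext (𝒰.pullback₁ (snd X S).left) _ _ fun i => ?_
      have hsq : IsPullback (X ◁ s i).left (snd X (Sj i)).left (snd X S).left (𝒰.f i) := by
        refine IsPullback.of_right (h₁₂ := pullback.fst X.hom S.hom) (v₁₁ := (snd X (Sj i)).left)
          (v₁₃ := X.hom) (h₂₂ := S.hom) ?_ ?_ (IsPullback.of_hasPullback _ _)
        · rw [Over.whiskerLeft_left_fst]
          exact IsPullback.of_hasPullback X.hom (Sj i).hom
        · exact congrArg CommaMorphism.left (whiskerLeft_snd X (s i))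
      show pullback.fst _ _ ≫ _ = pullback.fst _ _ ≫ _
      rw [← hsq.isoPullback_inv_fst, Category.assoc, Category.assoc]
      congr 1
      rw [← Over.comp_left, ← Over.comp_left, ← MonoidalCategory.whiskerLeft_comp_assoc, hG, hg]
    · apply Over.OverMorphism.ext
      refine Scheme.Cover.hom_ext 𝒰 _ _ fun i => ?_
      have := hgu i (s i ≫ G') (by
        show (X ◁ (s i ≫ G')) ≫ ev = _
        rw [MonoidalCategory.whiskerLeft_comp, Category.assoc, hG'])
      exact congrArg CommaMorphism.left (this.trans (hG i).symm)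
  · have : Algebra.FiniteType k Γ(Z.left, ⊤) := by
      have h1 : Z.hom.appTop.hom.FiniteType := HasRingHomProperty.appTop (P := @LocallyOfFiniteType) _ hZ
      exact (RingHom.FiniteType.comp h1 (RingHom.FiniteType.of_surjective _
        (Scheme.ΓSpecIso (CommRingCat.of k)).symm.commRingCatIsoToRingEquiv.surjective) : (str Z).FiniteType)
    haveI := hFT this
    exact (HasRingHomProperty.Spec_iff (P := @LocallyOfFiniteType)).2
      (RingHom.finiteType_algebraMap.2 inferInstance)

end Groth.Agent.HomAff
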